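import Cfsg.Agent.Lib.BG.Hall

/-!
# Pronormality of overgroups of Sylow subgroups: general lemmas
-/

set_option autoImplicit false

namespace Cfsg.Lib.Pron

open Subgroup Cfsg.Lib.BG Cfsg.Lib.Transfer
open scoped Cfsg.Lib.Transfer

variable {X : Type*} [Group X] {p : ℕ}

/-- `H` is pronormal in the subgroup `G` of the ambient group. -/
def PronIn (H G : Subgroup X) : Prop := ∀ g ∈ G, ∃ x ∈ H ⊔ g ⋆ H, g ⋆ H = x ⋆ H

theorem exists_conj_sup [Finite X] [Fact p.Prime] {S H G : Subgroup X} (hS : Syl p S G)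
    (h1 : S ≤ H) (h2 : H ≤ G) {g : X} (hg : g ∈ G) :
    ∃ k ∈ H ⊔ g ⋆ H, k⁻¹ * g ∈ G ⊓ 𝐍(S) := by
  have hK : H ⊔ g ⋆ H ≤ G := sup_le h2 (conj_le_of_mem h2 hg)
  obtain ⟨k, hk, e⟩ := Syl.exists_conj_eq (hS.of_le (h1.trans le_sup_left) hK)
    ((hS.conj_of_mem hg).of_le ((conj_mono g h1).trans le_sup_right) hK)
  refine ⟨k, hk, G.mul_mem (G.inv_mem (hK hk)) hg, norm_of_conj_eq ?_⟩
  rw [← conj_conj, e, inv_conj_conj]

theorem pronIn_of_norm [Finite X] [Fact p.Prime] {S H G : Subgroup X} (hS : Syl p S G)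
    (h1 : S ≤ H) (h2 : H ≤ G)
    (h : ∀ g ∈ G ⊓ 𝐍(S), ∃ x ∈ H ⊔ g ⋆ H, g ⋆ H = x ⋆ H) : PronIn H G := by
  intro g hg
  obtain ⟨k, hk, hn⟩ := exists_conj_sup hS h1 h2 hg
  obtain ⟨w, hw, e⟩ := h _ hn
  have hle : H ⊔ (k⁻¹ * g) ⋆ H ≤ H ⊔ g ⋆ H := by
    refine sup_le le_sup_left ?_
    rw [← conj_conj]
    exact conj_le_of_mem le_sup_right (inv_mem hk)
  refine ⟨k * w, mul_mem hk (hle hw), ?_⟩
  rw [← conj_conj, ← e, conj_conj, mul_inv_cancel_left]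

theorem pronIn_of_norm_le [Finite X] [Fact p.Prime] {S H G : Subgroup X} (hS : Syl p S G)
    (h1 : S ≤ H) (h2 : H ≤ G) (h : G ⊓ 𝐍(S) ≤ 𝐍(H)) : PronIn H G :=
  pronIn_of_norm hS h1 h2 fun g hg => ⟨1, one_mem _, by rw [conj_eq_of_norm (h hg), conj_one]⟩

/-- The abstract consequence of a split `BN`-pair: the Borel subgroup normalizes every overgroup
of the Sylow subgroup. -/
theorem norm_le_norm [Finite X] [Fact p.Prime] {S H G : Subgroup X} (hS : Syl p S G)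
    (h1 : S ≤ H) (h2 : H ≤ G)
    (hA : ∀ t ∈ G ⊓ 𝐍(S), ∀ u ∈ G ⊓ 𝐍(S), t * u * t⁻¹ * u⁻¹ ∈ S)
    (hB : ∀ g ∈ G, ∀ t ∈ G ⊓ 𝐍(S), ∃ d ∈ 𝐍(g ⋆ S), t * d⁻¹ ∈ S) : G ⊓ 𝐍(S) ≤ 𝐍(H) := by
  intro t ht
  refine mem_normalizer_of_conj_le (conj_le_iff.2 fun h hh => ?_)
  obtain ⟨k, hk, hn⟩ := exists_conj_sup hS le_rfl hS.le (h2 hh)
  have hK : S ⊔ h ⋆ S ≤ H := sup_le h1 (conj_le_of_mem h1 hh)
  obtain ⟨d, hd, hs⟩ := hB h (h2 hh) t ht
  have hK' : t ⋆ (S ⊔ h ⋆ S) ≤ H := by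
    rw [conj_sup, conj_eq_of_norm ht.2]
    refine sup_le h1 ?_
    rw [show t = (t * d⁻¹) * d by simp, ← conj_conj, conj_eq_of_norm hd]
    exact conj_le_of_mem (conj_le_of_mem h1 hh) (h1 hs)
  have e : t * h * t⁻¹ = (t * k * t⁻¹) * (t * (k⁻¹ * h) * t⁻¹ * (k⁻¹ * h)⁻¹) * (k⁻¹ * h) := by
    group
  rw [e]
  exact mul_mem (mul_mem (hK' (conj_mem_conj.2 hk)) (h1 (hA t ht _ hn)))
    (mul_mem (inv_mem (hK hk)) hh)

theorem map_conj' {Y : Type*} [Group Y] (f : X →* Y) (g : X) (H : Subgroup X) :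
    (g ⋆ H).map f = f g ⋆ H.map f := by
  rw [map_map, map_map]
  congr 1
  ext x
  simp

/-- Transfer of pronormality along an embedding and a surjection. -/
theorem isPronormal_of_pronIn {Γ Y : Type*} [Group Γ] [Group Y] (ι : Γ →* X)
    (hι : Function.Injective ι) (φ : Γ →* Y) (hφ : Function.Surjective φ) {H : Subgroup Y}
    (h : PronIn ((H.comap φ).map ι) ι.range) : IsPronormal H := by
  intro y
  obtain ⟨g, rfl⟩ := hφ y
  obtain ⟨x, hx, e⟩ := h (ι g) ⟨g, rfl⟩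
  rw [← map_conj', ← Subgroup.map_sup] at hx
  obtain ⟨x, hx, rfl⟩ := hx
  rw [← map_conj', ← map_conj'] at e
  have e' := congrArg (Subgroup.map φ) (map_injective hι e)
  have hx' := mem_map_of_mem φ hx
  rw [Subgroup.map_sup, map_conj', map_comap_eq_self_of_surjective hφ] at hx'
  rw [map_conj', map_conj', map_comap_eq_self_of_surjective hφ] at e'
  exact ⟨φ x, hx', e'⟩

theorem relIndex_map_comap {Γ Y : Type*} [Group Γ] [Group Y] (ι : Γ →* X)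
    (hι : Function.Injective ι) (φ : Γ →* Y) (hφ : Function.Surjective φ) (H : Subgroup Y) :
    ((H.comap φ).map ι).relIndex ι.range = H.index := by
  rw [MonoidHom.range_eq_map, relIndex_map_map_of_injective _ _ hι, relIndex_top_right,
    index_comap_of_surjective _ hφ]

theorem exists_syl_le [Finite X] [hp : Fact p.Prime] {H G : Subgroup X} (h : H ≤ G)
    (hi : ¬ p ∣ H.relIndex G) : ∃ S, Syl p S G ∧ S ≤ H := by
  obtain ⟨S, hS⟩ := Syl.exists p H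
  exact ⟨S, hS.trans_idx h (PiNat.p'_iff.2 hi), hS.le⟩

/-- If the odd order elements normalizing the Sylow `2`-subgroup `S` lie in `H ≥ S`, so does the
normalizer. -/
theorem norm_le_of_odd [Finite X] {S H G : Subgroup X} (hS : Syl 2 S G) (h1 : S ≤ H)
    (h : ∀ g ∈ G ⊓ 𝐍(S), Odd (orderOf g) → g ∈ H) : G ⊓ 𝐍(S) ≤ H := by
  intro g hg
  obtain ⟨y, hy, z, hz, h2, h3, rfl, -⟩ := exists_pi_decomp {2} g
  have hy' := zpowers_le.2 hg hy
  have hz' := zpowers_le.2 hg hz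
  refine mul_mem (h1 (hS.to_norm.mem_of_normal inf_le_right hy' h2)) (h z hz' ?_)
  exact Nat.odd_iff.2 (Nat.two_dvd_ne_zero.1 (PiNat.p'_iff.1 h3))

end Cfsg.Lib.Pron
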