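import Cfsg.Agent.Lib.Pron.Basic
import Cfsg.Agent.Lib.Unitary.Center

/-!
# Explicit `2`-subgroups of `SL`, `SU` in odd characteristic
-/

set_option autoImplicit false

namespace Cfsg.Lib.Pron

open Module Cfsg.Lib.Unitary Cfsg.Lib.BG Cfsg.Lib.Transfer
open scoped Cfsg.Lib.Transfer

variable {F V : Type*} [Field F] [AddCommGroup V] [Module F V] {σ : F →+* F}
  {B : V →ₛₗ[σ] V →ₗ[F] F}

/-- The zero form (linear case) or a non-degenerate Hermitian form (unitary case). -/
def Good (B : V →ₛₗ[σ] V →ₗ[F] F) : Prop := B = 0 ∨ IsHerm σ B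

/-- `g` is a scalar. -/
def Sc (g : V ≃ₗ[F] V) : Prop := ∃ c : F, ∀ v, g v = c • v

theorem Sc.comm {g : V ≃ₗ[F] V} (h : Sc g) (x : V ≃ₗ[F] V) : x * g = g * x := by
  obtain ⟨c, hc⟩ := h
  ext v
  simp [hc]

theorem Sc.of_conj {g x : V ≃ₗ[F] V} (h : Sc (x * g * x⁻¹)) : Sc g := by
  have := h.comm x⁻¹
  rw [show g = x * g * x⁻¹ by
    calc g = x⁻¹ * (x * g * x⁻¹) * x := by group
      _ = x * g * x⁻¹ := by rw [this]; group]
  exact h

theorem sc_iff {g : V ≃ₗ[F] V} : Sc g ↔ g ∈ (scal V).range := by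
  refine ⟨fun ⟨c, hc⟩ => ?_, fun ⟨c, hc⟩ => ⟨c, fun v => by rw [← hc, scal_apply]⟩⟩
  by_cases h : c = 0
  · refine ⟨1, ?_⟩
    ext v
    obtain rfl : v = 0 := g.injective (by simp [hc, h])
    simp
  · exact ⟨Units.mk0 c h, by ext v; simp [hc]⟩

theorem mem_UG_of_basis {ι : Type*} (b : Basis ι F V) {g : V ≃ₗ[F] V}
    (h : ∀ i j, B (g (b i)) (g (b j)) = B (b i) (b j)) : g ∈ UG B := fun u v => by
  have h1 : ∀ i, B (g (b i)) (g v) = B (b i) v := fun i =>
    congrArg (· v) (b.ext (f₁ := B (g (b i)) ∘ₗ (g : V →ₗ[F] V)) (f₂ := B (b i)) (h i))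
  exact congrArg (· u) (b.ext (f₁ := (B.flip (g v)).comp (g : V →ₗ[F] V)) (f₂ := B.flip v) h1)

theorem zero_mem_UG (g : V ≃ₗ[F] V) : g ∈ UG (0 : V →ₛₗ[σ] V →ₗ[F] F) := fun _ _ => rfl

theorem Good.exists_basis [Finite F] [FiniteDimensional F V] (h : Good B) (ι : Type*) [Fintype ι]
    [DecidableEq ι] (hι : finrank F V = Fintype.card ι) :
    ∃ b : Basis ι F V, B = 0 ∨ ∀ i j, B (b i) (b j) = if i = j then 1 else 0 := by
  rcases h with h | h
  · exact ⟨(finBasisOfFinrankEq F V hι).reindex (Fintype.equivFin ι).symm, .inl h⟩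
  obtain ⟨b, hb⟩ := h.exists_orthonormal_basis hι
  exact ⟨b.reindex (Fintype.equivFin ι).symm, .inr fun i j => by simp [hb]⟩

/-- The monomial map `b i ↦ ε i • b (τ i)`. -/
noncomputable def mono {ι : Type*} (b : Basis ι F V) (τ : Equiv.Perm ι) (ε : ι → Fˣ) :
    V ≃ₗ[F] V := b.equiv ((b.reindex τ.symm).unitsSMul ε) (Equiv.refl ι)

theorem mono_apply {ι : Type*} (b : Basis ι F V) (τ : Equiv.Perm ι) (ε : ι → Fˣ) (i : ι) :
    mono b τ ε (b i) = (ε i : F) • b (τ i) := by
  simp [mono, Basis.unitsSMul_apply, Units.smul_def]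

/-- Diagonal maps. -/
noncomputable def diagHom {ι : Type*} (b : Basis ι F V) : (ι → Fˣ) →* (V ≃ₗ[F] V) :=
  MonoidHom.mk' (mono b 1) fun ε ε' => b.ext' fun i => by
    simp [mono_apply, smul_smul, mul_comm]

theorem diagHom_apply {ι : Type*} (b : Basis ι F V) (ε : ι → Fˣ) (i : ι) :
    diagHom b ε (b i) = (ε i : F) • b i := mono_apply b 1 ε i

theorem diagHom_injective {ι : Type*} (b : Basis ι F V) : Function.Injective (diagHom b) := by
  intro ε ε' h
  ext i
  have := congrArg (· (b i)) h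
  simp only [diagHom_apply] at this
  exact smul_left_injective F (b.ne_zero i) this

theorem det_diagHom {ι : Type*} [Fintype ι] (b : Basis ι F V) (ε : ι → Fˣ) :
    LinearEquiv.det (diagHom b ε) = ∏ i, ε i := by
  classical
  ext
  rw [LinearEquiv.coe_det, ← LinearMap.det_toMatrix b]
  have : LinearMap.toMatrix b b (diagHom b ε : V →ₗ[F] V) = Matrix.diagonal fun i => (ε i : F) := by
    ext i j
    simp [LinearMap.toMatrix_apply, diagHom_apply, Matrix.diagonal_apply, Finsupp.single_apply,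
      eq_comm]
    split_ifs with h <;> simp [h]
  simp [this]

/-- Signed translations. -/
def sgnM {ι : Type*} [AddCommGroup ι] (b : Basis ι F V) : Subgroup (V ≃ₗ[F] V) where
  carrier := {g | ∃ a : ι, ∀ i, g (b i) = b (i + a) ∨ g (b i) = -b (i + a)}
  one_mem' := ⟨0, fun i => .inl (by simp)⟩
  mul_mem' {g h} := fun ⟨a, ha⟩ ⟨c, hc⟩ => ⟨c + a, fun i => by
    rcases hc i with e | e <;> rcases ha (i + c) with e' | e' <;>
      simp [LinearEquiv.mul_apply, e, e', add_assoc]⟩
  inv_mem' {g} := fun ⟨a, ha⟩ => ⟨-a, fun i => by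
    rcases ha (i + -a) with e | e
    · left
      rw [neg_add_cancel_right] at e
      rw [← e]; simp
    · right
      rw [neg_add_cancel_right, ← neg_eq_iff_eq_neg, ← map_neg] at e
      rw [← e]; simp⟩

theorem isPGroup_sgnM {ι : Type*} [AddCommGroup ι] (b : Basis ι F V) (h : ∀ a : ι, a + a = 0) :
    IsPGroup 2 (sgnM b) := by
  rintro ⟨g, a, ha⟩
  refine ⟨2, Subtype.ext (b.ext' fun i => ?_)⟩
  have h1 : ∀ i, g (g (b i)) = b i ∨ g (g (b i)) = -b i := fun i => by
    rcases ha i with e | e <;> rcases ha (i + a) with e' | e' <;>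
      simp [e, e', add_assoc, h]
  change g (g (g (g (b i)))) = b i
  rcases h1 i with e | e <;> simp [e]

theorem sgnM_le_UG {ι : Type*} [AddCommGroup ι] [DecidableEq ι] (b : Basis ι F V)
    (hb : B = 0 ∨ ∀ i j, B (b i) (b j) = if i = j then 1 else 0) : sgnM b ≤ UG B := by
  rcases hb with rfl | hb
  · exact fun g _ => zero_mem_UG g
  rintro g ⟨a, ha⟩
  refine mem_UG_of_basis b fun i j => ?_
  by_cases h : i = j
  · subst h
    rcases ha i with e | e <;> simp [e, hb]
  · rcases ha i with e | e <;> rcases ha j with e' | e' <;> simp [e, e', hb, h]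

theorem diagHom_mem_sgnM {ι : Type*} [AddCommGroup ι] (b : Basis ι F V) {ε : ι → Fˣ}
    (h : ∀ i, ε i = 1 ∨ ε i = -1) : diagHom b ε ∈ sgnM b :=
  ⟨0, fun i => by rcases h i with e | e <;> simp [diagHom_apply, e]⟩

variable [Finite F] [FiniteDimensional F V]

theorem exists_schur_big (hB : Good B) (h2 : (2 : F) ≠ 0) {w : ℕ} (hw : 2 ≤ w)
    (hn : finrank F V = 2 ^ w) : ∃ P ≤ SUG B, IsPGroup 2 P ∧
      ∀ t : V ≃ₗ[F] V, (∀ s ∈ P, s * t = t * s) → Sc t := by
  classical
  obtain ⟨b, hb⟩ := hB.exists_basis (Fin w → ZMod 2) (by simp [hn])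
  have hP := isPGroup_sgnM b fun a => funext fun i => CharTwo.add_self_eq_zero (a i)
  have hd : ∀ i : Fin w → ZMod 2, diagHom b (Pi.mulSingle i (-1)) ∈ sgnM b ∧
      LinearEquiv.det (diagHom b (Pi.mulSingle i (-1))) = -1 := fun i =>
    ⟨diagHom_mem_sgnM b fun j => by by_cases h : j = i <;> simp [Pi.mulSingle_apply, h],
      by rw [det_diagHom, Finset.prod_pi_mulSingle']; simp⟩
  have hm : ∀ g ∈ sgnM b, LinearEquiv.det g = 1 → g ∈ sgnM b ⊓ SUG B := fun g hg h =>
    ⟨hg, mem_SUG.2 ⟨sgnM_le_UG b hb hg, h⟩⟩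
  refine ⟨sgnM b ⊓ SUG B, inf_le_right, pgroup_of_le hP inf_le_left, fun t ht => ?_⟩
  have h1 : ∀ k, t (b k) = b.repr (t (b k)) k • b k := fun k => by
    refine b.ext_elem fun l => ?_
    by_cases hl : l = k
    · simp [hl]
    obtain ⟨i, hi⟩ : ∃ i, i ∉ ({k, l} : Finset (Fin w → ZMod 2)) := by
      by_contra h
      push Not at h
      have h3 := Finset.card_le_card (show Finset.univ ⊆ {k, l} from fun i _ => h i)
      have h4 := Finset.card_le_two (a := k) (b := l)
      have h5 : 2 ^ 2 ≤ 2 ^ w := Nat.pow_le_pow_right (by norm_num) hw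
      simp at h3
      omega
    simp only [Finset.mem_insert, Finset.mem_singleton, not_or] at hi
    have h3 := ht _ (hm _ (mul_mem (hd l).1 (hd i).1) (by simp [(hd l).2, (hd i).2]))
    rw [← map_mul] at h3
    have h4 := congrArg (fun g => b.repr (g (b k)) l) h3
    have h5 : ∀ (ε : (Fin w → ZMod 2) → Fˣ) v, b.repr (diagHom b ε v) l = ε l * b.repr v l :=
      fun ε v => congrArg (· v) (b.ext (f₁ := b.coord l ∘ₗ (diagHom b ε : V →ₗ[F] V))
        (f₂ := (ε l : F) • b.coord l) fun j => by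
          by_cases h : j = l <;> simp [diagHom_apply, h])
    simp only [LinearEquiv.mul_apply, h5, diagHom_apply, Pi.mul_apply, Pi.mulSingle_apply, hl,
      Ne.symm hl, Ne.symm hi.1, Ne.symm hi.2, if_true, if_false, mul_one, Units.val_one, one_smul,
      Units.val_neg] at h4
    have h6 : b.repr (t (b k)) l = 0 := by
      refine (mul_eq_zero.1 ?_).resolve_left h2
      linear_combination -h4
    simp [h6, Ne.symm hl]
  have h3 : ∀ a, ∃ g ∈ sgnM b ⊓ SUG B, g (b 0) = b a ∨ g (b 0) = -b a := fun a => by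
    have h4 : ∀ i, mono b (Equiv.addRight a) 1 (b i) = b (i + a) := fun i => by simp [mono_apply]
    have h5 : mono b (Equiv.addRight a) 1 ∈ sgnM b := ⟨a, fun i => .inl (h4 i)⟩
    have h6 : mono b (Equiv.addRight a) 1 * mono b (Equiv.addRight a) 1 = 1 := b.ext' fun i => by
      have : a + a = 0 := funext fun i => CharTwo.add_self_eq_zero (a i)
      simp [h4, add_assoc, this]
    have h7 := congrArg LinearEquiv.det h6
    rw [map_mul, map_one, mul_eq_one_iff_inv_eq, Units.inv_eq_self_iff] at h7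
    rcases h7 with h7 | h7
    · exact ⟨_, hm _ h5 h7, .inl (by simp [h4])⟩
    · exact ⟨_, hm _ (mul_mem h5 (hd 0).1) (by simp [h7, (hd 0).2]), .inr
        (by simp [diagHom_apply, h4])⟩
  refine ⟨b.repr (t (b 0)) 0, fun v => congrArg (· v) (b.ext (f₁ := (t : V →ₗ[F] V))
    (f₂ := b.repr (t (b 0)) 0 • LinearMap.id) fun a => ?_)⟩
  obtain ⟨g, hg, h4⟩ := h3 a
  have h5 := congrArg (· (b 0)) (ht g hg)
  simp only [LinearEquiv.mul_apply] at h5
  rw [h1 0, map_smul] at h5
  rcases h4 with h4 | h4 <;> simpa [h4, eq_comm] using h5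

theorem exists_eight (hB : Good B) (h2 : (2 : F) ≠ 0) (hn : 4 ≤ finrank F V) :
    ∃ E ≤ SUG B, IsElementaryAbelian 2 E ∧ Nat.card E = 8 := by
  classical
  obtain ⟨m, hm⟩ := Nat.exists_eq_add_of_le' hn
  obtain ⟨b, hb⟩ := hB.exists_basis (Option (Fin 3) ⊕ Fin m) (by simp [hm, add_comm])
  let u : ℤˣ →* Fˣ := Units.map (Int.castRingHom F).toMonoidHom
  have hu : ∀ x, u x = 1 ∨ u x = -1 := fun x => by
    rcases Int.units_eq_one_or x with rfl | rfl
    · exact .inl (map_one u)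
    · exact .inr (by ext; simp [u])
  have hu' : Function.Injective u := (injective_iff_map_eq_one u).2 fun x hx => by
    rcases Int.units_eq_one_or x with rfl | rfl
    · rfl
    · have := congrArg Units.val hx
      simp [u] at this
      exact absurd (by linear_combination -this) h2
  let ψ : (Fin 3 → ℤˣ) →* (Option (Fin 3) ⊕ Fin m → Fˣ) := MonoidHom.mk'
    (fun x => Sum.elim (fun o => o.elim (u (∏ k, x k)) fun k => u (x k)) 1) fun x y => by
      ext1 i
      rcases i with (_ | k) | k <;> simp [Finset.prod_mul_distrib]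
  have hψ : Function.Injective ψ := fun x y h => funext fun k =>
    hu' (congrFun h (.inl (some k)))
  have hψ' : ∀ x i, ψ x i = 1 ∨ ψ x i = -1 := fun x i => by
    rcases i with (_ | k) | k
    exacts [hu _, hu _, .inl rfl]
  refine ⟨((diagHom b).comp ψ).range, ?_, ⟨inferInstance, ?_⟩, ?_⟩
  · rintro _ ⟨x, rfl⟩
    refine mem_SUG.2 ⟨?_, ?_⟩
    · rcases hb with rfl | hb
      · exact zero_mem_UG _
      refine mem_UG_of_basis b fun i j => ?_
      by_cases h : i = j
      · subst h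
        rcases hψ' x i with e | e <;> simp [diagHom_apply, e, hb]
      · simp [diagHom_apply, hb, h]
    · rw [MonoidHom.comp_apply, det_diagHom, Fintype.prod_sum_type, Fintype.prod_option]
      change u _ * (∏ k, u (x k)) * ∏ _k : Fin m, 1 = 1
      rw [← map_prod, ← map_mul, Int.units_mul_self]
      simp
  · rintro _ ⟨x, rfl⟩
    rw [← map_pow, show x ^ 2 = 1 from funext fun k => Int.units_sq (x k), map_one]
  · rw [← Nat.card_congr (MonoidHom.ofInjective (f := (diagHom b).comp ψ)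
      ((diagHom_injective b).comp hψ)).toEquiv]
    simp [Nat.card_eq_fintype_card]

omit [Finite F] in
theorem exists_not_sc (h2 : (2 : F) ≠ 0) (hn : 2 ≤ finrank F V) : ∃ g : V ≃ₗ[F] V, ¬ Sc g := by
  classical
  obtain ⟨m, hm⟩ := Nat.exists_eq_add_of_le' hn
  let b := finBasisOfFinrankEq F V hm
  refine ⟨diagHom b (Pi.mulSingle 0 (-1)), fun ⟨c, hc⟩ => h2 ?_⟩
  have h0 := smul_left_injective F (b.ne_zero 0) ((diagHom_apply _ _ _).symm.trans (hc (b 0)))
  have h1 := smul_left_injective F (b.ne_zero 1) ((diagHom_apply _ _ _).symm.trans (hc (b 1)))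
  simp at h0 h1
  linear_combination h1 - h0

end Cfsg.Lib.Pron
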