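import Cfsg.Agent.Lib.Pron.Two
import Cfsg.Agent.Lib.PSL2.Proper
import Cfsg.Agent.Lib.Misc.Cyclic

/-!
# Subgroups of odd index of `PSL₂(q)`, `q` odd, are pronormal
-/

set_option autoImplicit false

namespace Cfsg.Lib.Pron

open Cfsg.Lib.BG Cfsg.Lib.Transfer Cfsg.Lib.PSL2 Cfsg.Lib.Small MulAction
open scoped Cfsg.Lib.Transfer MatrixGroups

variable {F : Type*} [Field F] [Finite F]

theorem not_le_torusL {K : Type*} [Field K] [Algebra F K] {a b : P1 K} (hab : a ≠ b)
    {V H : Subgroup PSL(2, F)} (hV : IsKleinFour V) (h : V ≤ H) : ¬ H ≤ torusL F a b := fun h' =>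
  IsKleinFour.not_isCyclic (isCyclic_of_le_torusL hab (h.trans h'))

theorem mem_torusL_of_sq {K : Type*} [Field K] [Algebra F K] {a b : P1 K} (hab : a ≠ b)
    {g : PSL(2, F)} (hg : g ∈ dihL F a b) (h : g * g ≠ 1) : g ∈ torusL F a b :=
  mem_fix2_of_mul_self_ne hab hg fun e => h (toK_comp_toP_injective (K := K) (by
    rw [map_mul, map_one]; exact e))

theorem psl_norm_le (hq : Odd (Nat.card F)) {S V : Subgroup PSL(2, F)} (hS : Syl 2 S ⊤)
    (hV : IsKleinFour V) (hVS : V ≤ S) (hne : V ≠ S) : ⊤ ⊓ 𝐍(S) ≤ S := by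
  obtain ⟨p, hp⟩ := CharP.exists F
  haveI : Fact p.Prime := ⟨CharP.char_is_prime F p⟩
  obtain ⟨k, hk⟩ := IsPGroup.iff_card.1 hS.pgroup
  have hp2 : p ≠ 2 := by
    rintro rfl
    exact (Nat.not_even_iff_odd.2 hq) (even_iff_two_dvd.2 (char_dvd_card 2))
  obtain ⟨a, b, m, hab, hd⟩ := exists_le_dihL_of_coprime (AlgebraicClosure F) p (H := S)
    (hk ▸ ((Nat.coprime_primes Nat.prime_two Fact.out).2 hp2.symm).pow_left k) (fun h => by
      have := (Nat.prime_three.dvd_of_dvd_pow (hk ▸ (by norm_num : 3 ∣ 12).trans h))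
      omega)
  have hab := hab.ne
  have h1 := not_le_torusL hab hV hVS
  have h3 := card_of_le_dihL hab hd h1
  have h4 := card_lt_of_lt (lt_of_le_of_ne hVS hne)
  rw [hV.card_four] at h4
  obtain ⟨c, hc, hc'⟩ := cyclic_iff.1 (isCyclic_of_le_torusL hab (inf_le_right (a := S)))
  have h5 : c * c ≠ 1 := fun e => by
    have := Nat.le_of_dvd two_pos (orderOf_dvd_of_pow_eq_one ((sq c).trans e))
    rw [← Nat.card_zpowers, hc'] at this
    omega
  refine norm_le_of_odd hS le_rfl fun g hg ho => ?_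
  have h6 : g ∈ dihL F a b := by
    rw [← normalizer_of_le_torusL hab (inf_le_right (a := S))
      (ne_bot_of_mem hc fun e => h5 (by simp [e]))]
    refine mem_normalizer_of_conj_le ?_
    conv_lhs => rw [← hc', conj_zpowers]
    have h7 := conj_mem_of_norm hg.2 hc.1
    refine Subgroup.zpowers_le.2 ⟨h7, mem_torusL_of_sq hab (hd h7) fun e => h5 ?_⟩
    rwa [conj_mul, conj_eq_one_iff] at e
  by_cases h7 : g * g = 1
  · have := Nat.eq_one_of_dvd_coprimes (Nat.coprime_two_left.2 ho)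
      (orderOf_dvd_of_pow_eq_one ((sq g).trans h7)) dvd_rfl
    rw [orderOf_eq_one_iff.1 this]
    exact one_mem _
  have h8 := mem_torusL_of_sq hab h6 h7
  refine absurd (fun s hs => ?_) h1
  rw [← centralizer_of_mem_torusL hab h8 h7, mem_cent1, ← mul_inv_eq_iff_eq_mul]
  refine conj_eq_of_comm hS.pgroup hg.2 hs ho ?_
  rcases conj_eq_or_eq_inv_of_comap (toK_comp_toP_injective (K := AlgebraicClosure F)) hab
    (hd hs) h8 with e | e <;> rw [e]
  exact (Commute.refl g).inv_right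

theorem isPronormal_psl (hq : Odd (Nat.card F)) {H : Subgroup PSL(2, F)} (hH : Odd H.index) :
    IsPronormal H := by
  obtain ⟨S, hS, hSH⟩ := exists_syl_le (p := 2) (le_top (a := H))
    (by rw [Subgroup.relIndex_top_right]; exact hH.not_two_dvd_nat)
  suffices PronIn H ⊤ from fun g => this g trivial
  obtain ⟨V₀, hV₀⟩ := exists_four_psl hq
  obtain ⟨c, -, hc⟩ := hS.exists_conj_le (IsPGroup.of_card (n := 2) hV₀.card_four) le_top
  have hV : IsKleinFour ↥(c ⋆ V₀) := isKleinFour_map (MulAut.conj c).injective hV₀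
  by_cases hne : c ⋆ V₀ = S
  swap
  · exact pronIn_of_norm_le hS hSH le_top
      ((psl_norm_le hq hS hV hc hne).trans (le_norm_of_le hSH))
  rw [hne] at hV
  clear hne hc hV₀ c V₀
  refine pronIn_of_norm hS hSH le_top fun g hg => ?_
  have hSg : S ≤ g ⋆ H := (conj_eq_of_norm hg.2).ge.trans (conj_mono g hSH)
  obtain ⟨p, hp⟩ := CharP.exists F
  haveI : Fact p.Prime := ⟨CharP.char_is_prime F p⟩
  have h8 : Nat.card F % 8 = 3 ∨ Nat.card F % 8 = 5 := by
    by_contra h
    have h1 := card_normalizer_four_psl_of_one_seven (by have := Nat.odd_iff.1 hq; omega) hV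
    have h3 := hS.to_norm.not_dvd'
    have h4 := BG.card_mul_relIndex (le_norm S)
    rw [top_inf_eq] at h3
    rw [h1, hV.card_four] at h4
    omega
  have key : HasA4 (H ⊔ g ⋆ H) → ∃ x ∈ H ⊔ g ⋆ H, g ⋆ H = x ⋆ H := by
    rintro ⟨t, ht, s, hs, x, hx, h⟩
    have h1 := hS.of_le (hSH.trans (le_sup_left (b := g ⋆ H))) le_top
    have h3 := h.four.four_le_iff.2 ⟨ht, hs⟩
    obtain ⟨k, hk, e⟩ := (Syl.of_card_le' h1 (IsPGroup.of_card (n := 2) h.four.card_four) h3
      (by rw [hV.card_four, h.four.card_four])).exists_conj_eq h1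
    have h4 : HasA4 (𝐍(h.four.four) ⊓ (H ⊔ g ⋆ H)) := ⟨t, ⟨le_norm _ h.four.left_mem, ht⟩, s,
      ⟨le_norm _ h.four.right_mem, hs⟩, x, ⟨h.mem_normalizer, hx⟩, h⟩
    have h5 := eq_of_le_of_card_le (inf_le_left (a := 𝐍(h.four.four)) (b := H ⊔ g ⋆ H)) (by
      rw [card_normalizer_four_psl_of_three_five h8 h.four.isKleinFour]
      exact Nat.le_of_dvd Nat.card_pos h4.twelve_dvd)
    refine ⟨g, ?_, rfl⟩
    have h6 := hg.2
    rw [e, ← conj_normalizer] at h6
    exact conj_le_of_mem (h5.ge.trans inf_le_right) hk h6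
  rcases dickson_psl (AlgebraicClosure F) p (H ⊔ g ⋆ H) with ⟨x, h⟩ | ⟨a, b, m, hab, h⟩ |
    ⟨-, h | h | ⟨⟨h⟩⟩⟩ | ⟨-, ⟨h⟩⟩ | ⟨x, -, h⟩
  · obtain ⟨t, s, h1, rfl⟩ := exists_fourGen hV
    refine absurd ?_ (not_four_le_stabilizer (x := x) ?_ (h1.map toP_injective))
    · rw [h1.four_map toP_injective, Subgroup.map_le_iff_le_comap, comap_stabilizer_toP]
      exact hSH.trans (le_sup_left.trans h)
    · intro h2
      haveI := CharTwo.of_one_ne_zero_of_two_eq_zero (R := F) one_ne_zero h2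
      exact (Nat.not_even_iff_odd.2 hq) (even_iff_two_dvd.2 (char_dvd_card 2))
  · have hab := hab.ne
    have h1 := card_of_le_dihL hab (le_sup_left.trans h) (not_le_torusL hab hV hSH)
    have h3 := card_of_le_dihL hab (le_sup_right.trans h) (not_le_torusL hab hV hSg)
    have h4 := card_of_le_dihL hab (inf_le_left.trans (le_sup_left.trans h))
      (not_le_torusL hab hV (le_inf hSH hSg))
    rw [card_conj] at h3
    have h5 := Misc.eq_of_card_eq_of_le_cyclic (isCyclic_torusL hab) (inf_le_right (a := H))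
      (inf_le_right (a := g ⋆ H)) (by omega)
    rw [inf_assoc, ← h5, ← inf_assoc, inf_idem, ← h1] at h4
    have h6 := eq_of_le_of_card_le (inf_le_left (a := H) (b := g ⋆ H)) h4.ge
    exact ⟨1, one_mem _, (eq_of_le_of_card_le (h6.ge.trans inf_le_right)
      (card_conj g H).le).symm.trans (conj_one H).symm⟩
  · exact key (hasA4_of_equiv_four (.inl h))
  · exact key (hasA4_of_equiv_four (.inr h))
  · exact key (hasA4_of_equiv h hasA4_alt_five)
  · exact key (hasA4_of_equiv h hasA4_alt_five)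
  · obtain ⟨k, hk, -, h⟩ := h.exists_equiv
    have e := (H ⊔ g ⋆ H).equivMapOfInjective _ toP_injective
    have hk' := (odd_card_of_map k.subtype).2 hq
    rcases h with ⟨⟨h⟩⟩ | ⟨⟨h⟩⟩
    · exact key (hasA4_of_equiv (e.trans h) (hasA4_psl hk'))
    · exact key (hasA4_of_equiv (e.trans h) ((hasA4_pslSub hk').mono le_top))

end Cfsg.Lib.Pron
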