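import Cfsg.Agent.Lib.Pron.Mono

/-!
# Sylow `2`-subgroups of `GL₂`, `GU₂` in odd characteristic
-/

set_option autoImplicit false

namespace Cfsg.Lib.Pron

open Module Cfsg.Lib.Unitary Cfsg.Lib.BG Cfsg.Lib.Transfer
open scoped Cfsg.Lib.Transfer

section group
variable {X : Type*} [Group X]

theorem isPGroup_zpowers {p k : ℕ} {x : X} (h : x ^ p ^ k = 1) :
    IsPGroup p (Subgroup.zpowers x) := by
  rintro ⟨_, j, rfl⟩
  exact ⟨k, Subtype.ext (by
    simp only [SubmonoidClass.coe_pow, OneMemClass.coe_one]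
    rw [← zpow_natCast, ← zpow_mul, mul_comm, zpow_mul, zpow_natCast, h, one_zpow])⟩

theorem comm_of_sq {g a : X} (ho : Odd (orderOf g)) (h : g * g * a = a * (g * g)) :
    g * a = a * g := by
  obtain ⟨k, hk⟩ := ho
  have h1 : g = (g * g) ^ (k + 1) := by
    rw [← sq, ← pow_mul, show 2 * (k + 1) = orderOf g + 1 by omega, pow_succ, pow_orderOf_eq_one,
      one_mul]
  have := (show Commute (g * g) a from h).pow_left (k + 1)
  rwa [← h1] at this

theorem conj_eq_of_comm {S : Subgroup X} (hS : IsPGroup 2 S) {g s : X} (hg : g ∈ 𝐍(S))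
    (hs : s ∈ S) (ho : Odd (orderOf g)) (h : Commute g (s * g * s⁻¹)) : s * g * s⁻¹ = g := by
  have h1 : g * (s * g * s⁻¹)⁻¹ ∈ S := by
    have := mul_mem (conj_mem_of_norm hg hs) (inv_mem hs)
    simpa [mul_assoc] using this
  obtain ⟨k, hk⟩ := hS ⟨_, h1⟩
  have h2 : (g * (s * g * s⁻¹)⁻¹) ^ orderOf g = 1 := by
    rw [h.inv_right.mul_pow, inv_pow, conj_pow, pow_orderOf_eq_one]; simp
  have h3 : orderOf (g * (s * g * s⁻¹)⁻¹) = 1 :=
    Nat.eq_one_of_dvd_coprimes ((Nat.coprime_two_left.2 ho).pow_left k)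
      (orderOf_dvd_of_pow_eq_one (congrArg Subtype.val hk)) (orderOf_dvd_of_pow_eq_one h2)
  rw [orderOf_eq_one_iff, mul_inv_eq_one] at h3
  exact h3.symm

theorem comm_comm {w₁ w₂ a c₁ c₂ : X} (h₁ : w₁ * a * w₁⁻¹ = c₁ * a) (h₂ : w₂ * a * w₂⁻¹ = c₂ * a)
    (z₁ : ∀ x, x * c₁ = c₁ * x) (z₂ : ∀ x, x * c₂ = c₂ * x) :
    (w₁ * w₂ * w₁⁻¹ * w₂⁻¹) * a = a * (w₁ * w₂ * w₁⁻¹ * w₂⁻¹) := by
  have e₁ : w₁ * a = c₁ * a * w₁ := by rw [← h₁]; group
  have e₂ : w₂ * a = c₂ * a * w₂ := by rw [← h₂]; group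
  have e : (w₂ * w₁)⁻¹ * a * (w₂ * w₁) = (w₁ * w₂)⁻¹ * a * (w₁ * w₂) := by
    have k1 : w₁ * w₂ * a = c₂ * c₁ * a * (w₁ * w₂) := by
      rw [mul_assoc, e₂, ← mul_assoc, ← mul_assoc, z₂, mul_assoc c₂, e₁]; group
    have k2 : w₂ * w₁ * a = c₂ * c₁ * a * (w₂ * w₁) := by
      rw [mul_assoc, e₁, ← mul_assoc, ← mul_assoc, z₁, mul_assoc c₁, e₂, ← z₂ c₁]; group
    have z : ∀ x, x * (c₂ * c₁) = c₂ * c₁ * x := fun x => by
      rw [← mul_assoc, z₂, mul_assoc, z₁, mul_assoc]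
    have k3 : ∀ u : X, u * a = c₂ * c₁ * a * u → u⁻¹ * a * u = (c₂ * c₁)⁻¹ * a := fun u hu => by
      rw [eq_inv_mul_iff_mul_eq, ← mul_assoc, ← mul_assoc, ← z, mul_assoc, mul_assoc,
        ← mul_assoc (c₂ * c₁), ← hu, inv_mul_cancel_left]
    rw [k3 _ k1, k3 _ k2]
  calc _ = (w₁ * w₂) * ((w₂ * w₁)⁻¹ * a * (w₂ * w₁)) * (w₂ * w₁)⁻¹ := by group
    _ = _ := by rw [e]; group

end group

variable {F V : Type*} [Field F] [AddCommGroup V] [Module F V] {σ : F →+* F}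
  {B : V →ₛₗ[σ] V →ₗ[F] F}

theorem exists_two (b : Basis (Fin 2) F V) (p q r s : F) (h : p * s - q * r ≠ 0) :
    ∃ g : V ≃ₗ[F] V, g (b 0) = p • b 0 + r • b 1 ∧ g (b 1) = q • b 0 + s • b 1 ∧
      LinearMap.det (g : V →ₗ[F] V) = p * s - q * r := by
  have hd : (!![p, q; r, s] : Matrix (Fin 2) (Fin 2) F).det = p * s - q * r := by
    simp [Matrix.det_fin_two]
  refine ⟨Matrix.toLinearEquiv b !![p, q; r, s] (hd ▸ h.isUnit), ?_, ?_, ?_⟩
  · simp [Matrix.toLin_self]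
  · simp [Matrix.toLin_self]
  · exact (LinearMap.det_toLin b _).trans hd

theorem exists_eq_of_comm [FiniteDimensional F V] (hn : finrank F V = 2) {a x : V ≃ₗ[F] V}
    (ha : ¬ Sc a) (h : x * a = a * x) : ∃ α β : F, ∀ v, x v = α • v + β • a v := by
  obtain ⟨v, hv⟩ : ∃ v, LinearIndependent F ![v, a v] := by
    by_contra h1
    push Not at h1
    obtain ⟨c, hc⟩ := LinearMap.exists_eq_smul_id_of_forall_notLinearIndependent
      (f := (a : V →ₗ[F] V)) h1
    exact ha ⟨c, fun v => congrArg (· v) hc⟩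
  let b := basisOfLinearIndependentOfCardEqFinrank hv (by simp [hn])
  have h0 : b 0 = v := by simp [b]
  have h1 : b 1 = a v := by simp [b]
  have h2 : x v = b.repr (x v) 0 • v + b.repr (x v) 1 • a v := by
    conv_lhs => rw [← b.sum_repr (x v), Fin.sum_univ_two, h0, h1]
  refine ⟨b.repr (x v) 0, b.repr (x v) 1, fun u => congrArg (· u) (b.ext (f₁ := (x : V →ₗ[F] V))
    (f₂ := b.repr (x v) 0 • LinearMap.id + b.repr (x v) 1 • (a : V →ₗ[F] V)) fun i => ?_)⟩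
  fin_cases i
  · simpa [h0] using h2
  · have h3 : x (a v) = a (x v) := congrArg (· v) h
    have h4 := congrArg a h2
    simpa [h1, h3] using h4

theorem sc_of_anti [FiniteDimensional F V] (hn : finrank F V = 2) (h2 : (2 : F) ≠ 0)
    {a s x : V ≃ₗ[F] V} (ha : ¬ Sc a) (hs : ∀ v, s (a v) = -a (s v)) (h : x * a = a * x)
    (h' : x * s = s * x) : Sc x := by
  obtain ⟨α, β, e⟩ := exists_eq_of_comm hn ha h
  haveI : Nontrivial V := nontrivial_of_finrank_eq_succ hn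
  obtain ⟨v, hv⟩ := exists_ne (0 : V)
  have h3 : x (s v) = s (x v) := congrArg (· v) h'
  rw [e, e, map_add, map_smul, map_smul, hs] at h3
  have h4 : (2 * β) • a (s v) = 0 := by linear_combination (norm := module) h3
  obtain rfl : β = 0 := by simpa [h2, hv] using h4
  exact ⟨α, by simpa using e⟩

theorem sign_of_det [FiniteDimensional F V] (hn : finrank F V = 2) {a w c : V ≃ₗ[F] V}
    {β : F} (hc : ∀ v, c v = β • v) (h : w * a * w⁻¹ = c * a) : β = 1 ∨ β = -1 := by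
  have h1 := congrArg LinearEquiv.det h
  rw [map_mul, map_mul, map_mul, map_inv, mul_comm _ (LinearEquiv.det a), mul_inv_cancel_right,
    right_eq_mul] at h1
  have h2 := det_of_eq_smul (g := (c : V →ₗ[F] V)) hc
  rw [← LinearEquiv.coe_det, h1, hn] at h2
  exact sq_eq_one_iff.1 h2.symm

variable [Finite F] [FiniteDimensional F V]

omit [FiniteDimensional F V] in
theorem Good.exists_sq (hB : Good B) (h2 : (2 : F) ≠ 0) :
    ∃ a c : F, a * a + c * c = -1 ∧ (B = 0 ∨ σ a = -a ∧ σ c = -c) := by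
  rcases hB with hB | hB
  · haveI := (CharP.char_is_prime F (ringChar F)).ne_zero
    haveI : NeZero (ringChar F) := ⟨this⟩
    obtain ⟨a, c, h⟩ := CharP.sq_add_sq F (ringChar F) (-1)
    exact ⟨a, c, by simpa [sq] using h, .inl hB⟩
  obtain ⟨q, hq⟩ := hB.exists_isBar
  haveI := Fintype.ofFinite F
  obtain ⟨i, hi⟩ : IsSquare (-1 : F) := FiniteField.isSquare_neg_one_iff.2 (by
    rw [← Nat.card_eq_fintype_card, hq.card, Nat.pow_mod]
    have : q % 4 < 4 := Nat.mod_lt _ (by norm_num)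
    interval_cases q % 4 <;> simp)
  have h3 : σ i * σ i = i * i := by rw [← map_mul, ← hi]; simp
  rcases mul_self_eq_mul_self_iff.1 h3 with h3 | h3
  swap
  · exact ⟨i, 0, by simp [hi], .inr ⟨h3, by simp⟩⟩
  obtain ⟨δ, hδ, hδ'⟩ := hB.exists_skew
  have hi0 : i ≠ 0 := by rintro rfl; simp at hi
  refine ⟨(δ - δ⁻¹) / 2, (δ + δ⁻¹) / (2 * i), ?_, .inr ⟨?_, ?_⟩⟩
  · field_simp
    linear_combination (-(δ ^ 2 - 1) ^ 2 - 4 * δ ^ 2) * hi
  · simp only [map_div₀, map_sub, map_inv₀, hδ', map_ofNat, inv_neg]; ring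
  · simp only [map_div₀, map_add, map_mul, map_inv₀, hδ', h3, map_ofNat, inv_neg]; ring

theorem exists_schur_two (hB : Good B) (h2 : (2 : F) ≠ 0) (hn : finrank F V = 2) :
    ∃ P ≤ SUG B, IsPGroup 2 P ∧ ∀ t : V ≃ₗ[F] V, (∀ s ∈ P, s * t = t * s) → Sc t := by
  obtain ⟨b, hb⟩ := hB.exists_basis (Fin 2) (by simp [hn])
  obtain ⟨a, c, hac, hσ⟩ := hB.exists_sq h2
  obtain ⟨r, r0, r1, hr⟩ := exists_two b 0 (-1) 1 0 (by simp)
  obtain ⟨s, s0, s1, hs⟩ := exists_two b a c c (-a) (by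
    rw [show a * -a - c * c = 1 by linear_combination -hac]; simp)
  simp only [zero_smul, zero_add, add_zero, one_smul, neg_smul] at r0 r1 s1
  have hrU : r ∈ SUG B := mem_SUG'.2 ⟨by
    rcases hb with rfl | hb
    · exact zero_mem_UG _
    refine mem_UG_of_basis b fun i j => ?_
    fin_cases i <;> fin_cases j <;> simp [r0, r1, hb], by simpa using hr⟩
  have hsU : s ∈ SUG B := mem_SUG'.2 ⟨by
    rcases hσ with rfl | hσ
    · exact zero_mem_UG _
    rcases hb with rfl | hb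
    · exact zero_mem_UG _
    refine mem_UG_of_basis b fun i j => ?_
    fin_cases i <;> fin_cases j <;> simp [s0, s1, hb, hσ.1, hσ.2]
    · linear_combination -hac
    · ring
    · ring
    · linear_combination -hac, by rw [hs]; linear_combination -hac⟩
  have h3 : ∀ v, r (r v) = -v := fun v => congrArg (· v) (b.ext
    (f₁ := (r : V →ₗ[F] V) ∘ₗ (r : V →ₗ[F] V)) (f₂ := -LinearMap.id) fun i => by
      fin_cases i <;> simp [r0, r1])
  have h4 : ∀ v, s (s v) = -v := fun v => congrArg (· v) (b.ext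
    (f₁ := (s : V →ₗ[F] V) ∘ₗ (s : V →ₗ[F] V)) (f₂ := -LinearMap.id) fun i => by
      fin_cases i <;> simp [s0, s1]
      · linear_combination (norm := module) hac • b 0
      · linear_combination (norm := module) hac • b 1)
  have h5 : ∀ v, s (r v) = -r (s v) := fun v => congrArg (· v) (b.ext
    (f₁ := (s : V →ₗ[F] V) ∘ₗ (r : V →ₗ[F] V))
    (f₂ := -((r : V →ₗ[F] V) ∘ₗ (s : V →ₗ[F] V))) fun i => by
      fin_cases i <;> simp [s0, s1, r0, r1] <;> module)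
  have h6 : ∀ g : V ≃ₗ[F] V, (∀ v, g (g v) = -v) → g ^ 2 ^ 2 = 1 := fun g hg => by
    ext v
    change g (g (g (g v))) = v
    rw [hg, hg, neg_neg]
  have h7 : s * r * s⁻¹ = r⁻¹ := by
    rw [eq_inv_iff_mul_eq_one]
    ext v
    simp [h5, h3]
  refine ⟨Subgroup.zpowers r ⊔ Subgroup.zpowers s,
    sup_le (Subgroup.zpowers_le.2 hrU) (Subgroup.zpowers_le.2 hsU),
    pgroup_sup (isPGroup_zpowers (h6 r h3)) (isPGroup_zpowers (h6 s h4))
      (Subgroup.zpowers_le.2 (norm_of_conj_eq ?_)), fun t ht => ?_⟩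
  · rw [conj_zpowers, h7, Subgroup.zpowers_inv]
  refine sc_of_anti hn h2 (a := r) (fun ⟨e, he⟩ => ?_) h5
    (ht r (Subgroup.mem_sup_left (Subgroup.mem_zpowers _))).symm
    (ht s (Subgroup.mem_sup_right (Subgroup.mem_zpowers _))).symm
  have := congrArg (b.repr · 1) ((he (b 0)).symm.trans r0)
  simp at this

theorem exists_dih (hB : Good B) (h2 : (2 : F) ≠ 0) (hn : finrank F V = 2) :
    ∃ P ≤ UG B, IsPGroup 2 P ∧ ∃ x ∈ P, ∃ y ∈ P, ¬ Sc (x * y * x⁻¹ * y⁻¹) := by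
  haveI : Finite (V ≃ₗ[F] V) := finite_linearEquiv
  obtain ⟨b, hb⟩ := hB.exists_basis (Fin 2) (by simp [hn])
  obtain ⟨l, hl0, hl⟩ : ∃ l : F, l ≠ 0 ∧ (B = 0 ∨ 2 * (l * σ l) = 1) := by
    rcases hB with hB | hB
    · exact ⟨1, one_ne_zero, .inl hB⟩
    obtain ⟨l, hl⟩ := hB.exists_norm_eq (μ := 2⁻¹) (by rw [map_inv₀, map_ofNat])
    exact ⟨l, by rintro rfl; exact inv_ne_zero h2 (by simpa using hl.symm), .inr (by rw [hl, mul_inv_cancel₀ h2])⟩
  obtain ⟨r, r0, r1, -⟩ := exists_two b 0 (-1) 1 0 (by simp)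
  obtain ⟨y, y0, y1, -⟩ := exists_two b 1 0 0 (-1) (by simp)
  obtain ⟨x, x0, x1, -⟩ := exists_two b l (-l) l l (by
    rw [show l * l - -l * l = 2 * (l * l) by ring]; simp [h2, hl0])
  simp only [zero_smul, zero_add, add_zero, one_smul, neg_smul] at r0 r1 y0 y1 x1
  have hU : r ∈ UG B ∧ y ∈ UG B ∧ x ∈ UG B := by
    rcases hl with rfl | hl
    · exact ⟨zero_mem_UG _, zero_mem_UG _, zero_mem_UG _⟩
    rcases hb with rfl | hb
    · exact ⟨zero_mem_UG _, zero_mem_UG _, zero_mem_UG _⟩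
    refine ⟨mem_UG_of_basis b fun i j => ?_, mem_UG_of_basis b fun i j => ?_,
      mem_UG_of_basis b fun i j => ?_⟩ <;> fin_cases i <;> fin_cases j <;>
      simp [r0, r1, y0, y1, x0, x1, hb] <;> linear_combination hl
  have h1 : r ^ 4 = 1 := b.ext' fun i => by fin_cases i <;> simp [pow_succ, r0, r1]
  have h3 : y * y = 1 := b.ext' fun i => by fin_cases i <;> simp [y0, y1]
  have h4 : x * r = r * x := b.ext' fun i => by fin_cases i <;> simp [r0, r1, x0, x1] <;> module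
  have h5 : r * y * x = x * y := b.ext' fun i => by
    fin_cases i <;> simp [r0, r1, x0, x1, y0, y1] <;> module
  have h6 : y * r * y⁻¹ = r⁻¹ := by
    rw [eq_inv_iff_mul_eq_one, inv_eq_of_mul_eq_one_right h3]
    exact b.ext' fun i => by fin_cases i <;> simp [r0, r1, y0, y1]
  have h7 : y * x * y⁻¹ = r⁻¹ * x := by
    rw [← h6, eq_comm]
    calc y * r * y⁻¹ * x = y * (r * y * x) := by rw [inv_eq_of_mul_eq_one_right h3]; group
      _ = _ := by rw [h5, inv_eq_of_mul_eq_one_right h3, mul_assoc]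
  obtain ⟨k, m, hm, e⟩ := Nat.exists_eq_two_pow_mul_odd (orderOf_pos x).ne'
  have h8 : (x ^ m) ^ 2 ^ k = 1 := by rw [← pow_mul, mul_comm, ← e, pow_orderOf_eq_one]
  have h9 : y * x ^ m * y⁻¹ = r⁻¹ ^ m * x ^ m := by
    rw [← conj_pow, h7, (show Commute x r from h4).symm.inv_left.mul_pow]
  have hA : IsPGroup 2 ↥(Subgroup.zpowers r ⊔ Subgroup.zpowers (x ^ m)) :=
    pgroup_sup (isPGroup_zpowers (k := 2) h1) (isPGroup_zpowers h8)
      (norm_of_cent (Subgroup.zpowers_le.2 (by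
        rw [cent_zpowers]; exact mem_cent1.2 ((show Commute x r from h4).pow_left m))))
  have hr : r ∈ Subgroup.zpowers r ⊔ Subgroup.zpowers (x ^ m) :=
    Subgroup.mem_sup_left (Subgroup.mem_zpowers _)
  have hx : x ^ m ∈ Subgroup.zpowers r ⊔ Subgroup.zpowers (x ^ m) :=
    Subgroup.mem_sup_right (Subgroup.mem_zpowers _)
  refine ⟨(Subgroup.zpowers r ⊔ Subgroup.zpowers (x ^ m)) ⊔ Subgroup.zpowers y,
    sup_le (sup_le (Subgroup.zpowers_le.2 hU.1) (Subgroup.zpowers_le.2 (pow_mem hU.2.2 m)))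
      (Subgroup.zpowers_le.2 hU.2.1),
    pgroup_sup hA (isPGroup_zpowers (k := 1) (by rw [← h3, pow_one, sq]))
      (Subgroup.zpowers_le.2 (mem_normalizer_of_conj_le ?_)), y,
    Subgroup.mem_sup_right (Subgroup.mem_zpowers _), x ^ m, Subgroup.mem_sup_left hx, ?_⟩
  · rw [conj_sup, conj_zpowers, conj_zpowers, h6, h9]
    exact sup_le (Subgroup.zpowers_le.2 (inv_mem hr))
      (Subgroup.zpowers_le.2 (mul_mem (pow_mem (inv_mem hr) m) hx))
  rw [h9, mul_inv_cancel_right]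
  intro h
  have h10 := h.comm y
  obtain ⟨j, rfl⟩ := hm
  have h11 : y * r⁻¹ ^ (2 * j + 1) * y⁻¹ = r ^ (2 * j + 1) := by
    rw [← conj_pow, ← conj_inv, h6, inv_inv]
  rw [h10, mul_inv_cancel_right, inv_pow, inv_eq_iff_mul_eq_one, ← pow_add,
    show 2 * j + 1 + (2 * j + 1) = 4 * j + 2 by ring, pow_add, pow_mul,
    h1, one_pow, one_mul] at h11
  have := congrArg (fun g : V ≃ₗ[F] V => b.repr (g (b 0)) 0) h11
  simp [sq, r0, r1] at this
  exact h2 (by linear_combination -this)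

end Cfsg.Lib.Pron
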